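import Groth.Prelude.Def_W4c6eohyperellchar2Gc
import Mathlib.LinearAlgebra.Dimension.Constructions
import Mathlib.LinearAlgebra.Quotient.Basic
import Mathlib.LinearAlgebra.StdBasis
import Mathlib.Algebra.CharP.Two

/-!
# Basic facts on the explicit characteristic-2 Dieudonné module `GcMod`
-/

namespace Groth.Agent.DieuLib

open W4c6eohyperellchar2

universe u
variable {c : ℕ} {k : Type u} [Field k] [CharP k 2] [PerfectRing k 2]

omit [CharP k 2] [PerfectRing k 2] in
theorem coefX_apply (v : GcMod c k) (i : Fin c) : coefX v (i.val + 1) = v.1 i := by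
  unfold coefX
  rw [dif_pos ⟨by omega, i.2⟩]
  exact congrArg v.1 (Fin.ext (by simp))

omit [CharP k 2] [PerfectRing k 2] in
theorem coefY_apply (v : GcMod c k) (i : Fin c) : coefY v (i.val + 1) = v.2 i := by
  unfold coefY
  rw [dif_pos ⟨by omega, i.2⟩]
  exact congrArg v.2 (Fin.ext (by simp))

omit [CharP k 2] [PerfectRing k 2] in
theorem coefX_eq_zero (v : GcMod c k) {n : ℕ} (h : ¬ (1 ≤ n ∧ n ≤ c)) : coefX v n = 0 := dif_neg h

omit [CharP k 2] [PerfectRing k 2] in
theorem coefY_eq_zero (v : GcMod c k) {n : ℕ} (h : ¬ (1 ≤ n ∧ n ≤ c)) : coefY v n = 0 := dif_neg h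

omit [CharP k 2] [PerfectRing k 2] in
theorem coefX_X (n m : ℕ) : coefX (X c k n) m = if m = n ∧ 1 ≤ m ∧ m ≤ c then 1 else 0 := by
  unfold coefX X
  split_ifs <;> (try simp only []) <;> (try split_ifs) <;> first | rfl | omega | (simp; omega)

omit [CharP k 2] [PerfectRing k 2] in
theorem coefY_Y (n m : ℕ) : coefY (Y c k n) m = if m = n ∧ 1 ≤ m ∧ m ≤ c then 1 else 0 := by
  unfold coefY Y
  split_ifs <;> (try simp only []) <;> (try split_ifs) <;> first | rfl | omega | (simp; omega)

omit [CharP k 2] [PerfectRing k 2] in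
theorem coefX_Y (n m : ℕ) : coefX (Y c k n) m = 0 := by
  unfold coefX Y; split_ifs <;> rfl

omit [CharP k 2] [PerfectRing k 2] in
theorem coefY_X (n m : ℕ) : coefY (X c k n) m = 0 := by
  unfold coefY X; split_ifs <;> rfl

omit [CharP k 2] [PerfectRing k 2] in
theorem coefX_add (v w : GcMod c k) (n : ℕ) : coefX (v + w) n = coefX v n + coefX w n := by
  unfold coefX; split_ifs <;> simp

omit [CharP k 2] [PerfectRing k 2] in
theorem coefY_add (v w : GcMod c k) (n : ℕ) : coefY (v + w) n = coefY v n + coefY w n := by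
  unfold coefY; split_ifs <;> simp

omit [CharP k 2] [PerfectRing k 2] in
theorem coefX_smul (a : k) (v : GcMod c k) (n : ℕ) : coefX (a • v) n = a * coefX v n := by
  unfold coefX; split_ifs <;> simp

omit [CharP k 2] [PerfectRing k 2] in
theorem coefY_smul (a : k) (v : GcMod c k) (n : ℕ) : coefY (a • v) n = a * coefY v n := by
  unfold coefY; split_ifs <;> simp

omit [CharP k 2] [PerfectRing k 2] in
theorem ext_coef {v w : GcMod c k} (hX : ∀ n, 1 ≤ n → n ≤ c → coefX v n = coefX w n)
    (hY : ∀ n, 1 ≤ n → n ≤ c → coefY v n = coefY w n) : v = w := by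
  refine Prod.ext (funext fun i => ?_) (funext fun i => ?_)
  · rw [← coefX_apply, ← coefX_apply]; exact hX _ (by omega) i.2
  · rw [← coefY_apply, ← coefY_apply]; exact hY _ (by omega) i.2

omit [CharP k 2] [PerfectRing k 2] in
theorem decomp (v : GcMod c k) :
    v = ∑ i : Fin c, v.1 i • X c k (i.val + 1) + ∑ i : Fin c, v.2 i • Y c k (i.val + 1) := by
  refine Prod.ext ?_ ?_ <;> funext j <;>
    simp [X, Y, Prod.fst_sum, Prod.snd_sum, Finset.sum_apply, Fin.val_inj]

omit [CharP k 2] [PerfectRing k 2] in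
theorem mem_of_basis (N : Submodule k (GcMod c k)) (v : GcMod c k)
    (hX : ∀ n, 1 ≤ n → n ≤ c → coefX v n ≠ 0 → X c k n ∈ N)
    (hY : ∀ n, 1 ≤ n → n ≤ c → coefY v n ≠ 0 → Y c k n ∈ N) : v ∈ N := by
  rw [decomp v]
  refine add_mem (sum_mem fun i _ => ?_) (sum_mem fun i _ => ?_)
  · by_cases h : v.1 i = 0
    · rw [h, zero_smul]; exact zero_mem _
    · exact N.smul_mem _ (hX _ (by omega) i.2 (by rwa [coefX_apply]))
  · by_cases h : v.2 i = 0
    · rw [h, zero_smul]; exact zero_mem _
    · exact N.smul_mem _ (hY _ (by omega) i.2 (by rwa [coefY_apply]))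

omit [CharP k 2] [PerfectRing k 2] in
theorem F_X {n : ℕ} (h1 : 1 ≤ n) (h2 : n ≤ c) :
    F c k (X c k n) = if n % 2 = 0 then X c k (n / 2) else Y c k (c - (n - 1) / 2) := by
  refine Prod.ext (funext fun i => ?_) (funext fun i => ?_)
  · simp only [F, coefX_X]
    split_ifs with h h' h' <;> simp only [X, Y, Pi.zero_apply] <;> (try split_ifs) <;> first | rfl | omega | (simp; done) | (exfalso; omega)
  · simp only [F, coefX_X]
    split_ifs with h h' h' <;> simp only [X, Y, Pi.zero_apply] <;> (try split_ifs) <;> first | rfl | omega | (simp; done) | (exfalso; omega)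

theorem V_Y {n : ℕ} (h1 : 1 ≤ n) (h2 : n ≤ c) : V c k (Y c k n) = Y c k (2 * n) := by
  refine Prod.ext rfl (funext fun i => ?_)
  simp only [V, coefY_Y, coefX_Y]
  split_ifs <;> simp only [Y] <;> (try split_ifs) <;> first | rfl | omega | (simp; done) | (exfalso; omega)

theorem V_X {n : ℕ} (h1 : 1 ≤ n) (h2 : n ≤ c) : V c k (X c k n) = Y c k (2 * c - 2 * n + 1) := by
  refine Prod.ext rfl (funext fun i => ?_)
  simp only [V, coefY_X, coefX_X]
  split_ifs <;> simp only [Y] <;> (try split_ifs) <;> first | rfl | omega | (simp; done) | (exfalso; omega)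

theorem add_self_eq_zero' (v : GcMod c k) : v + v = 0 :=
  Prod.ext (funext fun _ => CharTwo.add_self_eq_zero _) (funext fun _ => CharTwo.add_self_eq_zero _)

end Groth.Agent.DieuLib
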